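import Mathlib
import Groth.Agent.H69.DirColim

set_option autoImplicit false
universe u
open CategoryTheory MvPolynomial

namespace Groth.Agent.H15.NilPair

section base
variable {A V : Type u} [CommRing A]

/-- Polynomials in the variables from `S`. -/
noncomputable abbrev PS (A : Type u) [CommRing A] {V : Type u} (S : Finset V) :
    Subalgebra A (MvPolynomial V A) :=
  MvPolynomial.supported A (S : Set V)

theorem X_mem_PS {S : Finset V} {b : V} (hb : b ∈ S) : (X b : MvPolynomial V A) ∈ PS A S := by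
  show X b ∈ MvPolynomial.supported A (S : Set V)
  rw [MvPolynomial.supported_eq_adjoin_X]
  exact Algebra.subset_adjoin ⟨b, hb, rfl⟩

theorem PS_mono {S S' : Finset V} (h : S ⊆ S') : PS A S ≤ PS A S' :=
  MvPolynomial.supported_mono (Finset.coe_subset.mpr h)

/-- The ideal generated by the relations from `T` which lie in `PS A S`. -/
noncomputable def IT (S : Finset V) (T : Finset (MvPolynomial V A)) : Ideal (PS A S) :=
  Ideal.span {x | (x : MvPolynomial V A) ∈ T}

/-- The finitely presented algebra attached to `(S, T)`. -/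
def Cq (S : Finset V) (T : Finset (MvPolynomial V A)) : Type u := PS A S ⧸ IT S T

noncomputable instance instCommRingCq (S : Finset V) (T : Finset (MvPolynomial V A)) :
    CommRing (Cq S T) :=
  inferInstanceAs (CommRing (PS A S ⧸ IT S T))

noncomputable instance instAlgebraCq (S : Finset V) (T : Finset (MvPolynomial V A)) :
    Algebra A (Cq S T) :=
  inferInstanceAs (Algebra A (PS A S ⧸ IT S T))

/-- The quotient map. -/
noncomputable def mkq (S : Finset V) (T : Finset (MvPolynomial V A)) : PS A S →ₐ[A] Cq S T :=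
  Ideal.Quotient.mkₐ A (IT S T)

theorem mkq_surjective (S : Finset V) (T : Finset (MvPolynomial V A)) :
    Function.Surjective (mkq S T) := Ideal.Quotient.mk_surjective

theorem mkq_eq_zero_iff {S : Finset V} {T : Finset (MvPolynomial V A)} (x : PS A S) :
    mkq S T x = 0 ↔ x ∈ IT S T := Ideal.Quotient.eq_zero_iff_mem

theorem mkq_eq_zero {S : Finset V} {T : Finset (MvPolynomial V A)} (x : PS A S)
    (hx : (x : MvPolynomial V A) ∈ T) : mkq S T x = 0 :=
  Ideal.Quotient.eq_zero_iff_mem.mpr (Ideal.subset_span hx)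

theorem mkq_eq {S : Finset V} {T : Finset (MvPolynomial V A)} (x y : PS A S)
    (h : (x : MvPolynomial V A) - (y : MvPolynomial V A) ∈ T) : mkq S T x = mkq S T y := by
  rw [← sub_eq_zero, ← map_sub]
  exact mkq_eq_zero (x - y) h

theorem fp (S : Finset V) (T : Finset (MvPolynomial V A)) :
    Algebra.FinitePresentation A (Cq S T) := by
  haveI : Finite (↑(S : Set V)) := Set.finite_coe_iff.mpr S.finite_toSet
  haveI : Algebra.FinitePresentation A (PS A S) :=
    Algebra.FinitePresentation.equiv (MvPolynomial.supportedEquivMvPolynomial (S : Set V)).symm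
  have hfin : Set.Finite {x : PS A S | (x : MvPolynomial V A) ∈ T} :=
    Set.Finite.preimage (Subtype.val_injective.injOn) T.finite_toSet
  have hfg : (IT S T).FG := Submodule.fg_span hfin
  exact Algebra.FinitePresentation.quotient hfg

/-- Transition maps. -/
noncomputable def tr {S S' : Finset V} {T T' : Finset (MvPolynomial V A)} (hS : S ⊆ S')
    (hT : T ⊆ T') : Cq S T →ₐ[A] Cq S' T' :=
  Ideal.Quotient.liftₐ (IT S T)
    ((mkq S' T').comp (Subalgebra.inclusion (PS_mono hS)))
    (by
      intro x hx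
      have hle : IT S T ≤ RingHom.ker (((mkq S' T').comp
          (Subalgebra.inclusion (PS_mono (A := A) hS))) : PS A S →+* Cq S' T') := by
        apply Ideal.span_le.mpr
        intro y hy
        rw [SetLike.mem_coe, RingHom.mem_ker]
        exact mkq_eq_zero (Subalgebra.inclusion (PS_mono (A := A) hS) y) (hT hy)
      exact hle hx)

theorem tr_mkq {S S' : Finset V} {T T' : Finset (MvPolynomial V A)} (hS : S ⊆ S')
    (hT : T ⊆ T') (q : MvPolynomial V A) (hq : q ∈ PS A S) :
    tr hS hT (mkq S T ⟨q, hq⟩) = mkq S' T' ⟨q, PS_mono hS hq⟩ := rfl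

theorem tr_refl {S : Finset V} {T : Finset (MvPolynomial V A)} (x : Cq S T) :
    tr (Finset.Subset.refl S) (Finset.Subset.refl T) x = x := by
  obtain ⟨⟨q, hq⟩, rfl⟩ := mkq_surjective S T x
  exact tr_mkq _ _ q hq

theorem tr_trans {S S' S'' : Finset V} {T T' T'' : Finset (MvPolynomial V A)} (hS : S ⊆ S')
    (hT : T ⊆ T') (hS' : S' ⊆ S'') (hT' : T' ⊆ T'') (x : Cq S T) :
    tr hS' hT' (tr hS hT x) = tr (hS.trans hS') (hT.trans hT') x := by
  obtain ⟨⟨q, hq⟩, rfl⟩ := mkq_surjective S T x
  rw [tr_mkq, tr_mkq, tr_mkq]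

/-- The map to an algebra `E` induced by an evaluation killing the relations. -/
noncomputable def toE {E : Type u} [CommRing E] [Algebra A E] (ev : MvPolynomial V A →ₐ[A] E)
    {S : Finset V} {T : Finset (MvPolynomial V A)}
    (hT : ∀ t ∈ T, ev t = 0) : Cq S T →ₐ[A] E :=
  Ideal.Quotient.liftₐ (IT S T) (ev.comp (PS A S).val)
    (by
      intro x hx
      have hle : IT S T ≤ RingHom.ker ((ev.comp (PS A S).val : PS A S →ₐ[A] E) : PS A S →+* E) := by
        apply Ideal.span_le.mpr
        intro y hy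
        rw [SetLike.mem_coe, RingHom.mem_ker]
        exact hT _ hy
      exact hle hx)

theorem toE_mkq {E : Type u} [CommRing E] [Algebra A E] (ev : MvPolynomial V A →ₐ[A] E)
    {S : Finset V} {T : Finset (MvPolynomial V A)}
    (hT : ∀ t ∈ T, ev t = 0) (q : MvPolynomial V A) (hq : q ∈ PS A S) :
    toE ev hT (mkq S T ⟨q, hq⟩) = ev q := rfl

theorem toE_tr {E : Type u} [CommRing E] [Algebra A E] (ev : MvPolynomial V A →ₐ[A] E)
    {S S' : Finset V} {T T' : Finset (MvPolynomial V A)} (hS : S ⊆ S') (hTT : T ⊆ T')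
    (hT : ∀ t ∈ T, ev t = 0) (hT' : ∀ t ∈ T', ev t = 0) (x : Cq S T) :
    toE ev hT' (tr hS hTT x) = toE ev hT x := by
  obtain ⟨⟨q, hq⟩, rfl⟩ := mkq_surjective S T x
  rw [tr_mkq, toE_mkq, toE_mkq]

theorem gen_top {S : Finset V} {T : Finset (MvPolynomial V A)} (G : Subalgebra A (Cq S T))
    (h : ∀ b (hb : b ∈ S), mkq S T ⟨X b, X_mem_PS hb⟩ ∈ G) : G = ⊤ := by
  have key : ∀ (q : MvPolynomial V A)
      (hq : q ∈ Algebra.adjoin A (MvPolynomial.X '' (S : Set V))),
      ∀ hq' : q ∈ PS A S, mkq S T ⟨q, hq'⟩ ∈ G := by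
    intro q hq
    induction hq using Algebra.adjoin_induction with
    | mem x hx =>
      intro hq'
      obtain ⟨b, hb, rfl⟩ := hx
      exact h b hb
    | algebraMap r =>
      intro hq'
      have e : (⟨algebraMap A (MvPolynomial V A) r, hq'⟩ : PS A S) = algebraMap A (PS A S) r := rfl
      rw [e, AlgHom.commutes]
      exact G.algebraMap_mem r
    | add x y hx hy ihx ihy =>
      intro hq'
      have hx' : x ∈ PS A S := by
        show x ∈ MvPolynomial.supported A (S : Set V)
        rw [MvPolynomial.supported_eq_adjoin_X]; exact hx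
      have hy' : y ∈ PS A S := by
        show y ∈ MvPolynomial.supported A (S : Set V)
        rw [MvPolynomial.supported_eq_adjoin_X]; exact hy
      have e : (⟨x + y, hq'⟩ : PS A S) = ⟨x, hx'⟩ + ⟨y, hy'⟩ := rfl
      rw [e, map_add]
      exact G.add_mem (ihx hx') (ihy hy')
    | mul x y hx hy ihx ihy =>
      intro hq'
      have hx' : x ∈ PS A S := by
        show x ∈ MvPolynomial.supported A (S : Set V)
        rw [MvPolynomial.supported_eq_adjoin_X]; exact hx
      have hy' : y ∈ PS A S := by
        show y ∈ MvPolynomial.supported A (S : Set V)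
        rw [MvPolynomial.supported_eq_adjoin_X]; exact hy
      have e : (⟨x * y, hq'⟩ : PS A S) = ⟨x, hx'⟩ * ⟨y, hy'⟩ := rfl
      rw [e, map_mul]
      exact G.mul_mem (ihx hx') (ihy hy')
  rw [eq_top_iff]
  intro x _
  obtain ⟨⟨q, hq⟩, rfl⟩ := mkq_surjective S T x
  have hq' : q ∈ Algebra.adjoin A (MvPolynomial.X '' (S : Set V)) := by
    rw [← MvPolynomial.supported_eq_adjoin_X]; exact hq
  exact key q hq' hq



end base

end Groth.Agent.H15.NilPair
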