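import Mathlib
import Groth.Agent.H69.DirColim
import Groth.Agent.H15.NilPair.Base

set_option autoImplicit false
universe u
open CategoryTheory MvPolynomial

namespace Groth.Agent.H15.NilPair
open Groth.Agent.H69
open scoped Classical

section raw
variable {R P D' : Type u} [CommRing R]

/-- Raw index: finite sets of variables and of relations. -/
structure Raw (R P D' : Type u) [CommRing R] where
  Z : Finset P
  S : Finset D'
  TB : Finset (MvPolynomial (P ⊕ D') R)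
  T' : Finset (MvPolynomial (P ⊕ D') R)
  N : Finset (MvPolynomial (P ⊕ D') R)

instance : Preorder (Raw R P D') where
  le a b := a.Z ⊆ b.Z ∧ a.S ⊆ b.S ∧ a.TB ⊆ b.TB ∧ a.T' ⊆ b.T' ∧ a.N ⊆ b.N
  le_refl a := ⟨subset_rfl, subset_rfl, subset_rfl, subset_rfl, subset_rfl⟩
  le_trans a b c h1 h2 := ⟨h1.1.trans h2.1, h1.2.1.trans h2.2.1, h1.2.2.1.trans h2.2.2.1,
    h1.2.2.2.1.trans h2.2.2.2.1, h1.2.2.2.2.trans h2.2.2.2.2⟩

namespace Raw
variable (j k : Raw R P D')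

/-- variables of `B_j`. -/
def WB : Finset (P ⊕ D') := j.Z.disjSum ∅
/-- variables of `D'_j` and `D_j`. -/
def WD : Finset (P ⊕ D') := j.Z.disjSum j.S
/-- relations of `D_j`. -/
noncomputable def TD : Finset (MvPolynomial (P ⊕ D') R) := j.T' ∪ j.TB ∪ j.N

variable {j k}
theorem WB_sub_WD : j.WB ⊆ j.WD := Finset.disjSum_mono subset_rfl (Finset.empty_subset _)
theorem WB_mono (h : j ≤ k) : j.WB ⊆ k.WB := Finset.disjSum_mono h.1 subset_rfl
theorem WD_mono (h : j ≤ k) : j.WD ⊆ k.WD := Finset.disjSum_mono h.1 h.2.1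
theorem TB_mono (h : j ≤ k) : j.TB ⊆ k.TB := h.2.2.1
theorem T'_mono (h : j ≤ k) : j.T' ⊆ k.T' := h.2.2.2.1
theorem TD_mono (h : j ≤ k) : j.TD ⊆ k.TD :=
  Finset.union_subset_union (Finset.union_subset_union h.2.2.2.1 h.2.2.1) h.2.2.2.2
theorem TB_sub_TD : j.TB ⊆ j.TD :=
  Finset.subset_union_left.trans' Finset.subset_union_right |>.trans (le_of_eq rfl)
theorem T'_sub_TD : j.T' ⊆ j.TD :=
  Finset.subset_union_left.trans Finset.subset_union_left
theorem N_sub_TD : j.N ⊆ j.TD := Finset.subset_union_right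
variable (j k)

/-- The stage algebras. -/
abbrev CB : Type u := Cq (A := R) j.WB j.TB
abbrev CD' : Type u := Cq (A := R) j.WD j.T'
abbrev CD : Type u := Cq (A := R) j.WD j.TD

/-- `φ_j : B_j → D_j`. -/
noncomputable def phi : j.CB →ₐ[R] j.CD := tr WB_sub_WD TB_sub_TD
/-- `ψ_j : D'_j → D_j`. -/
noncomputable def psi : j.CD' →ₐ[R] j.CD := tr subset_rfl T'_sub_TD

end Raw

end raw

section defs
variable {R B D D' P : Type u} [CommRing R] [CommRing B] [CommRing D] [CommRing D'] [CommRing P]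
  [Algebra R B] [Algebra R D] [Algebra R D'] [Algebra R P]

/-- Evaluation to `B`: `P`-variables go to `q₁ p`, `D'`-variables go to `0` (never used). -/
noncomputable def evB (q₁ : P →ₐ[R] B) (D' : Type u) : MvPolynomial (P ⊕ D') R →ₐ[R] B :=
  aeval (Sum.elim q₁ (fun _ => 0))

/-- Evaluation to `D'`. -/
noncomputable def evD' (q₂ : P →ₐ[R] D') : MvPolynomial (P ⊕ D') R →ₐ[R] D' :=
  aeval (Sum.elim q₂ id)

/-- Evaluation to `D`. -/
noncomputable def evD (i : D' →ₐ[R] D) (q₂ : P →ₐ[R] D') : MvPolynomial (P ⊕ D') R →ₐ[R] D :=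
  i.comp (evD' q₂)

/-- Validity of an index (depends on the whole situation). -/
def Valid (f : B →ₐ[R] D) (i : D' →ₐ[R] D) (q₁ : P →ₐ[R] B) (q₂ : P →ₐ[R] D')
    (j : Raw R P D') : Prop :=
  (∀ t ∈ j.TB, t ∈ PS R j.WB ∧ evB q₁ D' t = 0 ∧ evD i q₂ t = 0) ∧
  (∀ t ∈ j.T', t ∈ PS R j.WD ∧ evD' q₂ t = 0) ∧
  (∀ t ∈ j.N, t ∈ PS R j.WD ∧ evD i q₂ t = 0) ∧
  (∀ x : PS R j.WD, (x : MvPolynomial (P ⊕ D') R) ∈ j.TB ∪ j.N → IsNilpotent (mkq j.WD j.T' x)) ∧
  (Function.Surjective f → j.S = ∅) ∧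
  (Function.Surjective f → (∀ x ∈ RingHom.ker f.toRingHom, IsNilpotent x) →
    ∀ x : PS R j.WB, (x : MvPolynomial (P ⊕ D') R) ∈ j.T' ∪ j.N → IsNilpotent (mkq j.WB j.TB x)) ∧
  (f.toRingHom.IsIntegral → ∀ s (hs : s ∈ j.S), j.phi.toRingHom.IsIntegralElem
    (mkq j.WD j.TD ⟨X (Sum.inr s), X_mem_PS (Finset.inr_mem_disjSum.mpr hs)⟩))

end defs

end Groth.Agent.H15.NilPair
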