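import Mathlib
import Groth.Agent.H69.DirColim
import Groth.Agent.H15.NilPair.Base
import Groth.Agent.H15.NilPair.Defs

set_option autoImplicit false
universe u
open CategoryTheory MvPolynomial

namespace Groth.Agent.H15.NilPair
open Groth.Agent.H69
open scoped Classical

/-- A natural transformation between two directed systems in `Under A`. -/
noncomputable def dirNat {A : Type u} [CommRing A] {J : Type u} [Preorder J]
    (C C' : J → Type u) [∀ j, CommRing (C j)] [∀ j, Algebra A (C j)]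
    [∀ j, CommRing (C' j)] [∀ j, Algebra A (C' j)]
    (tr : ∀ {i j : J}, i ≤ j → C i →ₐ[A] C j) (tr' : ∀ {i j : J}, i ≤ j → C' i →ₐ[A] C' j)
    (tr_refl : ∀ (i : J) (x : C i), tr (le_refl i) x = x)
    (tr_trans : ∀ {i j k : J} (h1 : i ≤ j) (h2 : j ≤ k) (x : C i),
      tr h2 (tr h1 x) = tr (h1.trans h2) x)
    (tr_refl' : ∀ (i : J) (x : C' i), tr' (le_refl i) x = x)
    (tr_trans' : ∀ {i j k : J} (h1 : i ≤ j) (h2 : j ≤ k) (x : C' i),
      tr' h2 (tr' h1 x) = tr' (h1.trans h2) x)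
    (g : ∀ j, C j →ₐ[A] C' j)
    (hg : ∀ {i j : J} (h : i ≤ j) (x : C i), g j (tr h x) = tr' h (g i x)) :
    dirF C tr tr_refl tr_trans ⟶ dirF C' tr' tr_refl' tr_trans' where
  app j := Under.homMk (CommRingCat.ofHom (g j).toRingHom) (by
    apply CommRingCat.hom_ext
    apply RingHom.ext
    intro a
    exact (g j).commutes a)
  naturality i j h := by
    apply Under.UnderMorphism.ext
    apply CommRingCat.hom_ext
    apply RingHom.ext
    intro x
    exact hg (leOfHom h) x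

section sys
variable {R B D D' P : Type u} [CommRing R] [CommRing B] [CommRing D] [CommRing D'] [CommRing P]
  [Algebra R B] [Algebra R D] [Algebra R D'] [Algebra R P]
variable (f : B →ₐ[R] D) (i : D' →ₐ[R] D) (q₁ : P →ₐ[R] B) (q₂ : P →ₐ[R] D')


theorem evD_eq_f_evB {f : B →ₐ[R] D} {i : D' →ₐ[R] D} {q₁ : P →ₐ[R] B} {q₂ : P →ₐ[R] D'}
    (hw : ∀ p, f (q₁ p) = i (q₂ p)) {Z : Finset P} (g : MvPolynomial (P ⊕ D') R)
    (hg : g ∈ PS R (Z.disjSum (∅ : Finset D'))) : evD i q₂ g = f (evB q₁ D' g) := by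
  have hg' : g ∈ MvPolynomial.supported R ((Z.disjSum (∅ : Finset D') : Finset _) : Set (P ⊕ D')) := hg
  rw [MvPolynomial.supported_eq_range_rename] at hg'
  obtain ⟨g', rfl⟩ := hg'
  simp only [evD, evD', evB, AlgHom.comp_apply]
  rw [← AlgHom.comp_apply, ← AlgHom.comp_apply, comp_aeval, comp_aeval]
  change (aeval _) (rename Subtype.val g') = (aeval _) (rename Subtype.val g')
  rw [aeval_rename, aeval_rename]
  congr 2
  funext ⟨v, hv⟩
  have hv' : v ∈ Z.disjSum (∅ : Finset D') := hv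
  rcases Finset.mem_disjSum.mp hv' with ⟨p, hp, rfl⟩ | ⟨d, hd, rfl⟩
  · simp [hw]
  · exact absurd hd (Finset.notMem_empty d)

theorem evD_eq_i_evD' {i : D' →ₐ[R] D} {q₂ : P →ₐ[R] D'} (g : MvPolynomial (P ⊕ D') R) :
    evD i q₂ g = i (evD' q₂ g) := rfl

/-- The index type. -/
abbrev J : Type u := {j : Raw R P D' // Valid f i q₁ q₂ j}

variable {f i q₁ q₂}

/-- stage algebras -/
abbrev FB (j : J f i q₁ q₂) : Type u := j.1.CB
abbrev FD' (j : J f i q₁ q₂) : Type u := j.1.CD'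
abbrev FD (j : J f i q₁ q₂) : Type u := j.1.CD

/-- transitions -/
noncomputable def trB {j k : J f i q₁ q₂} (h : j ≤ k) : FB j →ₐ[R] FB k :=
  tr (Raw.WB_mono h) (Raw.TB_mono h)
noncomputable def trD' {j k : J f i q₁ q₂} (h : j ≤ k) : FD' j →ₐ[R] FD' k :=
  tr (Raw.WD_mono h) (Raw.T'_mono h)
noncomputable def trD {j k : J f i q₁ q₂} (h : j ≤ k) : FD j →ₐ[R] FD k :=
  tr (Raw.WD_mono h) (Raw.TD_mono h)

theorem trB_refl (j : J f i q₁ q₂) (x : FB j) : trB (le_refl j) x = x := tr_refl x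
theorem trD'_refl (j : J f i q₁ q₂) (x : FD' j) : trD' (le_refl j) x = x := tr_refl x
theorem trD_refl (j : J f i q₁ q₂) (x : FD j) : trD (le_refl j) x = x := tr_refl x
theorem trB_trans {j k l : J f i q₁ q₂} (h1 : j ≤ k) (h2 : k ≤ l) (x : FB j) :
    trB h2 (trB h1 x) = trB (h1.trans h2) x := tr_trans _ _ _ _ x
theorem trD'_trans {j k l : J f i q₁ q₂} (h1 : j ≤ k) (h2 : k ≤ l) (x : FD' j) :
    trD' h2 (trD' h1 x) = trD' (h1.trans h2) x := tr_trans _ _ _ _ x
theorem trD_trans {j k l : J f i q₁ q₂} (h1 : j ≤ k) (h2 : k ≤ l) (x : FD j) :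
    trD h2 (trD h1 x) = trD (h1.trans h2) x := tr_trans _ _ _ _ x

theorem evD_TD (j : J f i q₁ q₂) : ∀ t ∈ j.1.TD, evD i q₂ t = 0 := by
  intro t ht
  rcases Finset.mem_union.mp ht with h | h
  · rcases Finset.mem_union.mp h with h | h
    · show i (evD' q₂ t) = 0
      rw [(j.2.2.1 t h).2, map_zero]
    · exact (j.2.1 t h).2.2
  · exact (j.2.2.2.1 t h).2

/-- structure maps -/
noncomputable def toB (j : J f i q₁ q₂) : FB j →ₐ[R] B :=
  toE (evB q₁ D') (fun t ht => (j.2.1 t ht).2.1)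
noncomputable def toD' (j : J f i q₁ q₂) : FD' j →ₐ[R] D' :=
  toE (evD' q₂) (fun t ht => (j.2.2.1 t ht).2)
noncomputable def toD (j : J f i q₁ q₂) : FD j →ₐ[R] D :=
  toE (evD i q₂) (evD_TD j)

theorem toB_tr {j k : J f i q₁ q₂} (h : j ≤ k) (x : FB j) : toB k (trB h x) = toB j x :=
  toE_tr _ _ _ _ _ x
theorem toD'_tr {j k : J f i q₁ q₂} (h : j ≤ k) (x : FD' j) : toD' k (trD' h x) = toD' j x :=
  toE_tr _ _ _ _ _ x
theorem toD_tr {j k : J f i q₁ q₂} (h : j ≤ k) (x : FD j) : toD k (trD h x) = toD j x :=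
  toE_tr _ _ _ _ _ x

/-- the comparison maps -/
noncomputable def phi (j : J f i q₁ q₂) : FB j →ₐ[R] FD j := j.1.phi
noncomputable def psi (j : J f i q₁ q₂) : FD' j →ₐ[R] FD j := j.1.psi

theorem phi_tr {j k : J f i q₁ q₂} (h : j ≤ k) (x : FB j) :
    phi k (trB h x) = trD h (phi j x) := by
  obtain ⟨⟨q, hq⟩, rfl⟩ := mkq_surjective _ _ x
  simp only [phi, Raw.phi, trB, trD, tr_mkq]
theorem psi_tr {j k : J f i q₁ q₂} (h : j ≤ k) (x : FD' j) :
    psi k (trD' h x) = trD h (psi j x) := by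
  obtain ⟨⟨q, hq⟩, rfl⟩ := mkq_surjective _ _ x
  simp only [psi, Raw.psi, trD', trD, tr_mkq]

theorem toD_psi (j : J f i q₁ q₂) (y : FD' j) : toD j (psi j y) = i (toD' j y) := by
  obtain ⟨⟨q, hq⟩, rfl⟩ := mkq_surjective _ _ y
  simp only [psi, Raw.psi, toD, toD', tr_mkq, toE_mkq]
  rfl

theorem toD_phi (hw : ∀ p, f (q₁ p) = i (q₂ p)) (j : J f i q₁ q₂) (x : FB j) :
    toD j (phi j x) = f (toB j x) := by
  obtain ⟨⟨q, hq⟩, rfl⟩ := mkq_surjective _ _ x
  simp only [phi, Raw.phi, toD, toB, tr_mkq, toE_mkq]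
  exact evD_eq_f_evB hw q hq

variable (f i q₁ q₂)
/-- the diagrams -/
noncomputable def DB : J f i q₁ q₂ ⥤ Under (CommRingCat.of R) :=
  dirF (fun j : J f i q₁ q₂ => FB j) trB trB_refl trB_trans
noncomputable def DD' : J f i q₁ q₂ ⥤ Under (CommRingCat.of R) :=
  dirF (fun j : J f i q₁ q₂ => FD' j) trD' trD'_refl trD'_trans
noncomputable def DD : J f i q₁ q₂ ⥤ Under (CommRingCat.of R) :=
  dirF (fun j : J f i q₁ q₂ => FD j) trD trD_refl trD_trans

noncomputable def coneB : Limits.Cocone (DB f i q₁ q₂) :=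
  dirCocone (fun j : J f i q₁ q₂ => FB j) trB trB_refl trB_trans toB toB_tr
noncomputable def coneD' : Limits.Cocone (DD' f i q₁ q₂) :=
  dirCocone (fun j : J f i q₁ q₂ => FD' j) trD' trD'_refl trD'_trans toD' toD'_tr
noncomputable def coneD : Limits.Cocone (DD f i q₁ q₂) :=
  dirCocone (fun j : J f i q₁ q₂ => FD j) trD trD_refl trD_trans toD toD_tr

noncomputable def natPhi : DB f i q₁ q₂ ⟶ DD f i q₁ q₂ :=
  dirNat _ _ trB trD trB_refl trB_trans trD_refl trD_trans phi phi_tr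
noncomputable def natPsi : DD' f i q₁ q₂ ⟶ DD f i q₁ q₂ :=
  dirNat _ _ trD' trD trD'_refl trD'_trans trD_refl trD_trans psi psi_tr

end sys

end Groth.Agent.H15.NilPair
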