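import Mathlib
import Groth.Agent.H69.DirColim
import Groth.Agent.H15.NilPair.Base
import Groth.Agent.H15.NilPair.Defs
import Groth.Agent.H15.NilPair.Sys

set_option autoImplicit false
universe u
open CategoryTheory MvPolynomial Limits

namespace Groth.Agent.H15.NilPair
open Groth.Agent.H69
open scoped Classical

section transfer
variable {R P D' : Type u} [CommRing R]
/-- transfer of nilpotency in `CD'` along `j ≤ k`. -/
theorem nil_transfer_D' {j k : Raw R P D'} (h : j ≤ k) (q : MvPolynomial (P ⊕ D') R)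
    (hq : q ∈ PS R j.WD) (hn : IsNilpotent (mkq j.WD j.T' ⟨q, hq⟩)) :
    IsNilpotent (mkq k.WD k.T' ⟨q, PS_mono (Raw.WD_mono h) hq⟩) := by
  have := hn.map (tr (A := R) (Raw.WD_mono h) (Raw.T'_mono h))
  rwa [tr_mkq] at this

/-- transfer of nilpotency in `CB` along `j ≤ k`. -/
theorem nil_transfer_B {j k : Raw R P D'} (h : j ≤ k) (q : MvPolynomial (P ⊕ D') R)
    (hq : q ∈ PS R j.WB) (hn : IsNilpotent (mkq j.WB j.TB ⟨q, hq⟩)) :
    IsNilpotent (mkq k.WB k.TB ⟨q, PS_mono (Raw.WB_mono h) hq⟩) := by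
  have := hn.map (tr (A := R) (Raw.WB_mono h) (Raw.TB_mono h))
  rwa [tr_mkq] at this

/-- transfer of integrality along `j ≤ k`. -/
theorem int_transfer {j k : Raw R P D'} (h : j ≤ k) (q : MvPolynomial (P ⊕ D') R)
    (hq : q ∈ PS R j.WD)
    (hn : j.phi.toRingHom.IsIntegralElem (mkq j.WD j.TD ⟨q, hq⟩)) :
    k.phi.toRingHom.IsIntegralElem (mkq k.WD k.TD ⟨q, PS_mono (Raw.WD_mono h) hq⟩) := by
  obtain ⟨p, hp, hp0⟩ := hn
  refine ⟨p.map (tr (A := R) (Raw.WB_mono h) (Raw.TB_mono h)).toRingHom, hp.map _, ?_⟩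
  rw [Polynomial.eval₂_map]
  have hcomm : k.phi.toRingHom.comp (tr (A := R) (Raw.WB_mono h) (Raw.TB_mono h)).toRingHom =
      (tr (A := R) (Raw.WD_mono h) (Raw.TD_mono h)).toRingHom.comp j.phi.toRingHom := by
    apply RingHom.ext
    intro x
    obtain ⟨⟨r, hr⟩, rfl⟩ := mkq_surjective _ _ x
    simp only [Raw.phi, RingHom.comp_apply, AlgHom.toRingHom_eq_coe, RingHom.coe_coe, tr_mkq]
  rw [hcomm, ← tr_mkq (A := R) (Raw.WD_mono h) (Raw.TD_mono h) q hq]
  have := Polynomial.hom_eval₂ p j.phi.toRingHom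
    (tr (A := R) (Raw.WD_mono h) (Raw.TD_mono h)).toRingHom (mkq j.WD j.TD ⟨q, hq⟩)
  simp only [AlgHom.toRingHom_eq_coe, RingHom.coe_coe] at this hp0 ⊢
  rw [← this, hp0, map_zero]

end transfer

variable {R B D D' P : Type u} [CommRing R] [CommRing B] [CommRing D] [CommRing D'] [CommRing P]
  [Algebra R B] [Algebra R D] [Algebra R D'] [Algebra R P]
variable {f : B →ₐ[R] D} {i : D' →ₐ[R] D} {q₁ : P →ₐ[R] B} {q₂ : P →ₐ[R] D'}

/-- An index without relations is valid as soon as clauses 5 and 7 are. -/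
theorem valid_basic (Z : Finset P) (S : Finset D') (h5 : Function.Surjective f → S = ∅)
    (h7 : f.toRingHom.IsIntegral → S = ∅) :
    Valid f i q₁ q₂ ⟨Z, S, ∅, ∅, ∅⟩ := by
  refine ⟨?_, ?_, ?_, ?_, h5, ?_, ?_⟩
  · intro t ht; exact absurd ht (Finset.notMem_empty t)
  · intro t ht; exact absurd ht (Finset.notMem_empty t)
  · intro t ht; exact absurd ht (Finset.notMem_empty t)
  · intro x hx; simp at hx
  · intro _ _ x hx; simp at hx
  · intro hint s hs
    rw [h7 hint] at hs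
    exact absurd hs (Finset.notMem_empty s)

end Groth.Agent.H15.NilPair
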