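import Mathlib
import Groth.Agent.H69.DirColim
import Groth.Agent.H15.NilPair.Base
import Groth.Agent.H15.NilPair.Defs
import Groth.Agent.H15.NilPair.Sys
import Groth.Agent.H15.NilPair.Lemmas

set_option autoImplicit false
universe u
open CategoryTheory MvPolynomial Limits

namespace Groth.Agent.H15.NilPair
open Groth.Agent.H69
open scoped Classical

variable {R B D D' P : Type u} [CommRing R] [CommRing B] [CommRing D] [CommRing D'] [CommRing P]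
  [Algebra R B] [Algebra R D] [Algebra R D'] [Algebra R P]
variable {f : B →ₐ[R] D} {i : D' →ₐ[R] D} {q₁ : P →ₐ[R] B} {q₂ : P →ₐ[R] D'}

theorem surj_B (hq₁ : Function.Surjective q₁) :
    ∀ b : B, ∃ (j : J f i q₁ q₂) (x : FB j), toB j x = b := by
  intro b
  obtain ⟨p, rfl⟩ := hq₁ b
  refine ⟨⟨⟨{p}, ∅, ∅, ∅, ∅⟩, valid_basic _ _ (fun _ => rfl) (fun _ => rfl)⟩,
    mkq _ _ ⟨X (Sum.inl p), X_mem_PS (Finset.inl_mem_disjSum.mpr (Finset.mem_singleton_self p))⟩, ?_⟩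
  simp only [toB, toE_mkq, evB, aeval_X, Sum.elim_inl]

theorem surj_D'_of_surj (hf : Function.Surjective f)
    (hPb : ∀ b d', f b = i d' → ∃ p, q₁ p = b ∧ q₂ p = d') :
    ∀ d' : D', ∃ (j : J f i q₁ q₂) (y : FD' j), toD' j y = d' := by
  intro d'
  obtain ⟨b, hb⟩ := hf (i d')
  obtain ⟨p, -, rfl⟩ := hPb b d' hb
  refine ⟨⟨⟨{p}, ∅, ∅, ∅, ∅⟩, valid_basic _ _ (fun _ => rfl) (fun _ => rfl)⟩,
    mkq _ _ ⟨X (Sum.inl p), X_mem_PS (Finset.inl_mem_disjSum.mpr (Finset.mem_singleton_self p))⟩, ?_⟩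
  simp only [toD', toE_mkq, evD', aeval_X, Sum.elim_inl]

theorem surj_D'_of_not (hf : ¬ Function.Surjective f) (hint : ¬ f.toRingHom.IsIntegral) :
    ∀ d' : D', ∃ (j : J f i q₁ q₂) (y : FD' j), toD' j y = d' := by
  intro d'
  refine ⟨⟨⟨∅, {d'}, ∅, ∅, ∅⟩, valid_basic _ _ (fun h => absurd h hf) (fun h => absurd h hint)⟩,
    mkq _ _ ⟨X (Sum.inr d'), X_mem_PS (Finset.inr_mem_disjSum.mpr (Finset.mem_singleton_self d'))⟩, ?_⟩
  simp only [toD', toE_mkq, evD', aeval_X, Sum.elim_inr, id]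

theorem WD_eq_WB_of_S {j : Raw R P D'} (h : j.S = ∅) : j.WD = j.WB := by
  unfold Raw.WD Raw.WB
  rw [h]

theorem phi_surj (hf : Function.Surjective f) (j : J f i q₁ q₂) : Function.Surjective (phi j) := by
  intro z
  obtain ⟨⟨q, hq⟩, rfl⟩ := mkq_surjective _ _ z
  have hS : j.1.S = ∅ := j.2.2.2.2.2.1 hf
  have hq' : q ∈ PS R j.1.WB := by
    rw [← WD_eq_WB_of_S hS]; exact hq
  refine ⟨mkq _ _ ⟨q, hq'⟩, ?_⟩
  simp only [phi, Raw.phi, tr_mkq]

end Groth.Agent.H15.NilPair
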