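import Mathlib
import Groth.Agent.H69.DirColim
import Groth.Agent.H15.NilPair.Base
import Groth.Agent.H15.NilPair.Defs
import Groth.Agent.H15.NilPair.Sys
import Groth.Agent.H15.NilPair.Lemmas

set_option autoImplicit false
universe u
open CategoryTheory MvPolynomial Limits

namespace Groth.Agent.H15.NilPair
open Groth.Agent.H69
open scoped Classical

variable {R B D D' P : Type u} [CommRing R] [CommRing B] [CommRing D] [CommRing D'] [CommRing P]
  [Algebra R B] [Algebra R D] [Algebra R D'] [Algebra R P]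
variable {f : B →ₐ[R] D} {i : D' →ₐ[R] D} {q₁ : P →ₐ[R] B} {q₂ : P →ₐ[R] D'}

theorem exists_pow_succ_eq_zero {A : Type u} [CommRing A] {a : A} (h : IsNilpotent a) :
    ∃ n : ℕ, a ^ (n + 1) = 0 := by
  obtain ⟨n, hn⟩ := h
  exact ⟨n, by rw [pow_succ, hn, zero_mul]⟩

theorem ker_B (hw : ∀ p, f (q₁ p) = i (q₂ p))
    (hnil : ∀ x ∈ RingHom.ker i.toRingHom, IsNilpotent x) :
    ∀ (j : J f i q₁ q₂) (x : FB j), toB j x = 0 → ∃ (k : J f i q₁ q₂) (h : j ≤ k), trB h x = 0 := by
  intro j x hx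
  obtain ⟨⟨g, hg⟩, rfl⟩ := mkq_surjective _ _ x
  simp only [toB, toE_mkq] at hx
  have hgD : evD i q₂ g = 0 := by
    rw [evD_eq_f_evB hw g hg, hx, map_zero]
  have hker : evD' q₂ g ∈ RingHom.ker i.toRingHom := by
    rw [RingHom.mem_ker]; exact hgD
  obtain ⟨n, hn⟩ := exists_pow_succ_eq_zero (hnil _ hker)
  have hgWD : g ∈ PS R j.1.WD := PS_mono Raw.WB_sub_WD hg
  let k : Raw R P D' := ⟨j.1.Z, j.1.S, insert g j.1.TB, insert (g ^ (n + 1)) j.1.T', j.1.N⟩
  have hjk : j.1 ≤ k := ⟨subset_rfl, subset_rfl, Finset.subset_insert _ _,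
    Finset.subset_insert _ _, subset_rfl⟩
  have hk : Valid f i q₁ q₂ k := by
    refine ⟨?_, ?_, ?_, ?_, ?_, ?_, ?_⟩
    · intro t ht
      rcases Finset.mem_insert.mp ht with rfl | ht
      · exact ⟨hg, hx, hgD⟩
      · exact j.2.1 t ht
    · intro t ht
      rcases Finset.mem_insert.mp ht with rfl | ht
      · exact ⟨(PS R j.1.WD).pow_mem hgWD _, by rw [map_pow, hn]⟩
      · exact j.2.2.1 t ht
    · exact j.2.2.2.1
    · intro x hxm
      have hxm' : (x : MvPolynomial (P ⊕ D') R) = g ∨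
          (x : MvPolynomial (P ⊕ D') R) ∈ j.1.TB ∪ j.1.N := by
        rcases Finset.mem_union.mp hxm with h | h
        · rcases Finset.mem_insert.mp h with h | h
          · exact Or.inl h
          · exact Or.inr (Finset.mem_union_left _ h)
        · exact Or.inr (Finset.mem_union_right _ h)
      rcases hxm' with h | h
      · refine ⟨n + 1, ?_⟩
        rw [← map_pow]
        apply mkq_eq_zero
        show ((x ^ (n + 1) : PS R k.WD) : MvPolynomial (P ⊕ D') R) ∈ insert (g ^ (n + 1)) j.1.T'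
        rw [SubmonoidClass.coe_pow, h]
        exact Finset.mem_insert_self _ _
      · exact nil_transfer_D' hjk x.1 x.2 (j.2.2.2.2.1 ⟨x.1, x.2⟩ h)
    · exact j.2.2.2.2.2.1
    · intro hf hfn x hxm
      have hxm' : (x : MvPolynomial (P ⊕ D') R) = g ^ (n + 1) ∨
          (x : MvPolynomial (P ⊕ D') R) ∈ j.1.T' ∪ j.1.N := by
        rcases Finset.mem_union.mp hxm with h | h
        · rcases Finset.mem_insert.mp h with h | h
          · exact Or.inl h
          · exact Or.inr (Finset.mem_union_left _ h)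
        · exact Or.inr (Finset.mem_union_right _ h)
      rcases hxm' with h | h
      · have hx' : x = (⟨g, hg⟩ : PS R k.WB) ^ (n + 1) := by
          apply Subtype.ext
          rw [SubmonoidClass.coe_pow]
          exact h
        rw [hx', map_pow, mkq_eq_zero (⟨g, hg⟩ : PS R k.WB) (Finset.mem_insert_self _ _),
          zero_pow (Nat.succ_ne_zero n)]
        exact IsNilpotent.zero
      · exact nil_transfer_B hjk x.1 x.2 (j.2.2.2.2.2.2.1 hf hfn ⟨x.1, x.2⟩ h)
    · intro hint s hs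
      exact int_transfer hjk (X (Sum.inr s)) _ (j.2.2.2.2.2.2.2 hint s hs)
  refine ⟨⟨k, hk⟩, hjk, ?_⟩
  simp only [trB, tr_mkq]
  exact mkq_eq_zero _ (Finset.mem_insert_self _ _)

end Groth.Agent.H15.NilPair
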