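import Mathlib
import Groth.Agent.H69.DirColim
import Groth.Agent.H15.NilPair.Base
import Groth.Agent.H15.NilPair.Defs
import Groth.Agent.H15.NilPair.Sys
import Groth.Agent.H15.NilPair.Lemmas
import Groth.Agent.H15.NilPair.Easy
import Groth.Agent.H15.NilPair.KB

set_option autoImplicit false
universe u
open CategoryTheory MvPolynomial Limits

namespace Groth.Agent.H15.NilPair
open Groth.Agent.H69
open scoped Classical

section gen
variable {A V : Type u} [CommRing A]

theorem nil_mkq_of_pow_mem {S : Finset V} {T : Finset (MvPolynomial V A)} (g : MvPolynomial V A)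
    (hg : g ∈ PS A S) (n : ℕ) (h : g ^ (n + 1) ∈ T) : IsNilpotent (mkq S T ⟨g, hg⟩) := by
  refine ⟨n + 1, ?_⟩
  rw [← map_pow]
  apply mkq_eq_zero
  rw [SubmonoidClass.coe_pow]
  exact h

theorem nil_mkq_of_eq_pow {S : Finset V} {T : Finset (MvPolynomial V A)} (g : MvPolynomial V A)
    (hg : g ∈ PS A S) (m : ℕ) (x : PS A S) (hx : (x : MvPolynomial V A) = g ^ (m + 1))
    (h : IsNilpotent (mkq S T ⟨g, hg⟩)) : IsNilpotent (mkq S T x) := by
  have hx' : x = (⟨g, hg⟩ : PS A S) ^ (m + 1) := by
    apply Subtype.ext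
    rw [SubmonoidClass.coe_pow]
    exact hx
  rw [hx', map_pow]
  exact h.pow_succ m

theorem nil_mkq_of_eq {S : Finset V} {T : Finset (MvPolynomial V A)} (g : MvPolynomial V A)
    (hg : g ∈ PS A S) (x : PS A S) (hx : (x : MvPolynomial V A) = g)
    (h : IsNilpotent (mkq S T ⟨g, hg⟩)) : IsNilpotent (mkq S T x) := by
  have hx' : x = (⟨g, hg⟩ : PS A S) := Subtype.ext hx
  rw [hx']
  exact h

end gen

variable {R B D D' P : Type u} [CommRing R] [CommRing B] [CommRing D] [CommRing D'] [CommRing P]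
  [Algebra R B] [Algebra R D] [Algebra R D'] [Algebra R P]
variable {f : B →ₐ[R] D} {i : D' →ₐ[R] D} {q₁ : P →ₐ[R] B} {q₂ : P →ₐ[R] D'}

theorem ker_D (hw : ∀ p, f (q₁ p) = i (q₂ p))
    (hnil : ∀ x ∈ RingHom.ker i.toRingHom, IsNilpotent x) :
    ∀ (j : J f i q₁ q₂) (z : FD j), toD j z = 0 → ∃ (k : J f i q₁ q₂) (h : j ≤ k), trD h z = 0 := by
  intro j z hz
  obtain ⟨⟨g, hg⟩, rfl⟩ := mkq_surjective _ _ z
  simp only [toD, toE_mkq] at hz
  have hker : evD' q₂ g ∈ RingHom.ker i.toRingHom := by
    rw [RingHom.mem_ker]; exact hz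
  obtain ⟨n, hn⟩ := exists_pow_succ_eq_zero (hnil _ hker)
  by_cases mode : Function.Surjective f ∧ ∀ x ∈ RingHom.ker f.toRingHom, IsNilpotent x
  · have hS : j.1.S = ∅ := j.2.2.2.2.2.1 mode.1
    have hgB : g ∈ PS R j.1.WB := by
      rw [← WD_eq_WB_of_S hS]; exact hg
    have hkerf : evB q₁ D' g ∈ RingHom.ker f.toRingHom := by
      rw [RingHom.mem_ker]
      show f (evB q₁ D' g) = 0
      rw [← evD_eq_f_evB hw g hgB, hz]
    obtain ⟨m, hm⟩ := exists_pow_succ_eq_zero (mode.2 _ hkerf)
    let k : Raw R P D' := ⟨j.1.Z, j.1.S, insert (g ^ (m + 1)) j.1.TB,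
      insert (g ^ (n + 1)) j.1.T', insert g j.1.N⟩
    have hjk : j.1 ≤ k := ⟨subset_rfl, subset_rfl, Finset.subset_insert _ _,
      Finset.subset_insert _ _, Finset.subset_insert _ _⟩
    have hnD' : IsNilpotent (mkq k.WD k.T' ⟨g, hg⟩) :=
      nil_mkq_of_pow_mem g hg n (Finset.mem_insert_self _ _)
    have hnB : IsNilpotent (mkq k.WB k.TB ⟨g, hgB⟩) :=
      nil_mkq_of_pow_mem g hgB m (Finset.mem_insert_self _ _)
    have hk : Valid f i q₁ q₂ k := by
      refine ⟨?_, ?_, ?_, ?_, ?_, ?_, ?_⟩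
      · intro t ht
        rcases Finset.mem_insert.mp ht with rfl | ht
        · refine ⟨(PS R j.1.WB).pow_mem hgB _, by rw [map_pow, hm], ?_⟩
          rw [map_pow, hz, zero_pow (Nat.succ_ne_zero m)]
        · exact j.2.1 t ht
      · intro t ht
        rcases Finset.mem_insert.mp ht with rfl | ht
        · exact ⟨(PS R j.1.WD).pow_mem hg _, by rw [map_pow, hn]⟩
        · exact j.2.2.1 t ht
      · intro t ht
        rcases Finset.mem_insert.mp ht with rfl | ht
        · exact ⟨hg, hz⟩
        · exact j.2.2.2.1 t ht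
      · intro x hxm
        have hxm' : (x : MvPolynomial (P ⊕ D') R) = g ^ (m + 1) ∨
            (x : MvPolynomial (P ⊕ D') R) = g ∨
            (x : MvPolynomial (P ⊕ D') R) ∈ j.1.TB ∪ j.1.N := by
          rcases Finset.mem_union.mp hxm with h | h
          · rcases Finset.mem_insert.mp h with h | h
            · exact Or.inl h
            · exact Or.inr (Or.inr (Finset.mem_union_left _ h))
          · rcases Finset.mem_insert.mp h with h | h
            · exact Or.inr (Or.inl h)
            · exact Or.inr (Or.inr (Finset.mem_union_right _ h))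
        rcases hxm' with h | h | h
        · exact nil_mkq_of_eq_pow g hg m x h hnD'
        · exact nil_mkq_of_eq g hg x h hnD'
        · exact nil_transfer_D' hjk x.1 x.2 (j.2.2.2.2.1 ⟨x.1, x.2⟩ h)
      · exact j.2.2.2.2.2.1
      · intro hf hfn x hxm
        have hxm' : (x : MvPolynomial (P ⊕ D') R) = g ^ (n + 1) ∨
            (x : MvPolynomial (P ⊕ D') R) = g ∨
            (x : MvPolynomial (P ⊕ D') R) ∈ j.1.T' ∪ j.1.N := by
          rcases Finset.mem_union.mp hxm with h | h
          · rcases Finset.mem_insert.mp h with h | h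
            · exact Or.inl h
            · exact Or.inr (Or.inr (Finset.mem_union_left _ h))
          · rcases Finset.mem_insert.mp h with h | h
            · exact Or.inr (Or.inl h)
            · exact Or.inr (Or.inr (Finset.mem_union_right _ h))
        rcases hxm' with h | h | h
        · exact nil_mkq_of_eq_pow g hgB n x h hnB
        · exact nil_mkq_of_eq g hgB x h hnB
        · exact nil_transfer_B hjk x.1 x.2 (j.2.2.2.2.2.2.1 hf hfn ⟨x.1, x.2⟩ h)
      · intro hint s hs
        exact int_transfer hjk (X (Sum.inr s)) _ (j.2.2.2.2.2.2.2 hint s hs)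
    refine ⟨⟨k, hk⟩, hjk, ?_⟩
    simp only [trD, tr_mkq]
    exact mkq_eq_zero _ (Raw.N_sub_TD (Finset.mem_insert_self _ _))
  · let k : Raw R P D' := ⟨j.1.Z, j.1.S, j.1.TB, insert (g ^ (n + 1)) j.1.T', insert g j.1.N⟩
    have hjk : j.1 ≤ k := ⟨subset_rfl, subset_rfl, subset_rfl,
      Finset.subset_insert _ _, Finset.subset_insert _ _⟩
    have hnD' : IsNilpotent (mkq k.WD k.T' ⟨g, hg⟩) :=
      nil_mkq_of_pow_mem g hg n (Finset.mem_insert_self _ _)
    have hk : Valid f i q₁ q₂ k := by
      refine ⟨?_, ?_, ?_, ?_, ?_, ?_, ?_⟩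
      · exact j.2.1
      · intro t ht
        rcases Finset.mem_insert.mp ht with rfl | ht
        · exact ⟨(PS R j.1.WD).pow_mem hg _, by rw [map_pow, hn]⟩
        · exact j.2.2.1 t ht
      · intro t ht
        rcases Finset.mem_insert.mp ht with rfl | ht
        · exact ⟨hg, hz⟩
        · exact j.2.2.2.1 t ht
      · intro x hxm
        have hxm' : (x : MvPolynomial (P ⊕ D') R) = g ∨
            (x : MvPolynomial (P ⊕ D') R) ∈ j.1.TB ∪ j.1.N := by
          rcases Finset.mem_union.mp hxm with h | h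
          · exact Or.inr (Finset.mem_union_left _ h)
          · rcases Finset.mem_insert.mp h with h | h
            · exact Or.inl h
            · exact Or.inr (Finset.mem_union_right _ h)
        rcases hxm' with h | h
        · exact nil_mkq_of_eq g hg x h hnD'
        · exact nil_transfer_D' hjk x.1 x.2 (j.2.2.2.2.1 ⟨x.1, x.2⟩ h)
      · exact j.2.2.2.2.2.1
      · intro hf hfn
        exact absurd ⟨hf, hfn⟩ mode
      · intro hint s hs
        exact int_transfer hjk (X (Sum.inr s)) _ (j.2.2.2.2.2.2.2 hint s hs)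
    refine ⟨⟨k, hk⟩, hjk, ?_⟩
    simp only [trD, tr_mkq]
    exact mkq_eq_zero _ (Raw.N_sub_TD (Finset.mem_insert_self _ _))

end Groth.Agent.H15.NilPair
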