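import Mathlib
import Groth.Agent.H69.DirColim
import Groth.Agent.H15.NilPair.Base
import Groth.Agent.H15.NilPair.Defs
import Groth.Agent.H15.NilPair.Sys
import Groth.Agent.H15.NilPair.Lemmas
import Groth.Agent.H15.NilPair.Easy

set_option autoImplicit false
universe u
open CategoryTheory MvPolynomial Limits

namespace Groth.Agent.H15.NilPair
open Groth.Agent.H69
open scoped Classical

section gen
variable {A V : Type u} [CommRing A]

/-- If all generators of `IT S T₂` become nilpotent in `Cq S T₁`, then so does every element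
of `IT S T₂`. -/
theorem nil_of_mem_IT {S : Finset V} {T₁ T₂ : Finset (MvPolynomial V A)}
    (h : ∀ x : PS A S, (x : MvPolynomial V A) ∈ T₂ → IsNilpotent (mkq S T₁ x))
    (x : PS A S) (hx : x ∈ IT S T₂) : IsNilpotent (mkq S T₁ x) := by
  have hle : IT S T₂ ≤ Ideal.comap (mkq S T₁ : PS A S →+* Cq S T₁) (nilradical (Cq S T₁)) := by
    apply Ideal.span_le.mpr
    intro y hy
    exact h y hy
  exact hle hx

end gen

variable {R B D D' P : Type u} [CommRing R] [CommRing B] [CommRing D] [CommRing D'] [CommRing P]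
  [Algebra R B] [Algebra R D] [Algebra R D'] [Algebra R P]
variable {f : B →ₐ[R] D} {i : D' →ₐ[R] D} {q₁ : P →ₐ[R] B} {q₂ : P →ₐ[R] D'}

theorem psi_surj_nil (j : J f i q₁ q₂) :
    Function.Surjective (psi j) ∧ ∀ x ∈ RingHom.ker (psi j).toRingHom, IsNilpotent x := by
  constructor
  · intro z
    obtain ⟨⟨q, hq⟩, rfl⟩ := mkq_surjective _ _ z
    exact ⟨mkq _ _ ⟨q, hq⟩, by simp only [psi, Raw.psi, tr_mkq]⟩
  · intro x hx
    obtain ⟨⟨q, hq⟩, rfl⟩ := mkq_surjective _ _ x
    rw [RingHom.mem_ker] at hx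
    have hx' : mkq j.1.WD j.1.TD ⟨q, hq⟩ = 0 := by
      simpa only [psi, Raw.psi, tr_mkq, AlgHom.toRingHom_eq_coe, RingHom.coe_coe] using hx
    rw [mkq_eq_zero_iff] at hx'
    refine nil_of_mem_IT ?_ _ hx'
    intro y hy
    rcases Finset.mem_union.mp hy with h | h
    · rcases Finset.mem_union.mp h with h | h
      · rw [mkq_eq_zero y h]; exact IsNilpotent.zero
      · exact j.2.2.2.2.1 y (Finset.mem_union_left _ h)
    · exact j.2.2.2.2.1 y (Finset.mem_union_right _ h)

theorem phi_nil (hf : Function.Surjective f) (hfn : ∀ x ∈ RingHom.ker f.toRingHom, IsNilpotent x)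
    (j : J f i q₁ q₂) : ∀ x ∈ RingHom.ker (phi j).toRingHom, IsNilpotent x := by
  intro x hx
  obtain ⟨⟨q, hq⟩, rfl⟩ := mkq_surjective _ _ x
  rw [RingHom.mem_ker] at hx
  have hS : j.1.S = ∅ := j.2.2.2.2.2.1 hf
  have hW : j.1.WD = j.1.WB := WD_eq_WB_of_S hS
  have hx' : mkq j.1.WD j.1.TD ⟨q, PS_mono Raw.WB_sub_WD hq⟩ = 0 := by
    simpa only [phi, Raw.phi, tr_mkq, AlgHom.toRingHom_eq_coe, RingHom.coe_coe] using hx
  rw [mkq_eq_zero_iff] at hx'
  -- transport along `WD = WB`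
  have key : ∀ (W : Finset (P ⊕ D')) (hWeq : W = j.1.WB) (hq' : q ∈ PS R W),
      (⟨q, hq'⟩ : PS R W) ∈ IT W j.1.TD → IsNilpotent (mkq j.1.WB j.1.TB ⟨q, hq⟩) := by
    intro W hWeq
    subst hWeq
    intro hq' hmem
    refine nil_of_mem_IT ?_ _ hmem
    intro y hy
    rcases Finset.mem_union.mp hy with h | h
    · rcases Finset.mem_union.mp h with h | h
      · exact j.2.2.2.2.2.2.1 hf hfn y (Finset.mem_union_left _ h)
      · rw [mkq_eq_zero y h]; exact IsNilpotent.zero
    · exact j.2.2.2.2.2.2.1 hf hfn y (Finset.mem_union_right _ h)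
  exact key j.1.WD hW _ hx'

end Groth.Agent.H15.NilPair
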